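import Cfsg.Agent.H217.Odm.Real_m3
import Cfsg.Agent.H839.SeventeenMain_m3
import Cfsg.Agent.H729.PairTool_m3
import Cfsg.Agent.H603.SporElim
import Cfsg.Agent.Prune
set_option linter.all false
prune_inst 0x7f00000000000000000000000000000000000000000000000000000000000000000000000000000000000000000000000000000000000000000000000000000000000000000000000000000000000000003fffffffffffffffffffffffffffbeffbdffffffff
open scoped Cfsg.Agent.FastGrp

/-!
# TEAM ELUSIVE: `Fi23` (helper257)
-/

set_option autoImplicit false

namespace Cfsg.Agent.H257.El.Row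

open Cfsg Subgroup Cfsg.Agent.OrdDiv Cfsg.Agent.H278.El

universe u

theorem clM_fi23 (tab : OrderTable.{u}) (known : Known.{u}) {T : Type u} [Group T] (h : Spor.IsoFi23 T) : ClM T := by
  have hc := NotCT.Orders.fi23 h
  have : Finite T := Nat.finite_of_card_ne_zero (by rw [hc]; norm_num)
  obtain ⟨e⟩ := h
  refine clM_of_pair tab known (r := 23) (s := 13)
    (l := [(2, 18), (3, 13), (5, 2), (7, 1), (11, 1), (13, 1), (17, 1), (23, 1)]) hc
    (by norm_num) (by norm_num)
    (noOrd_of_cent (by norm_num) (fun x hx => ?_) (by norm_num) (by norm_num))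
    (by decide +kernel)
  obtain ⟨-, h2⟩ := H839.Fi23.SC.map_all e.symm H839.Fi23.twentythree_main (zpowers x) (by rw [Nat.card_zpowers, hx])
  rw [H729.PairBase.centralizer_zpowers_eq] at h2
  rw [h2, Nat.card_zpowers, hx]

theorem clT_fi23 (tab : OrderTable.{u}) (known : Known.{u}) {T : Type u} [Group T] (h : Spor.IsoFi23 T) : ClT T := by
  have : Finite T := Nat.finite_of_card_ne_zero (by rw [NotCT.Orders.fi23 h]; norm_num)
  exact (clM_fi23 tab known h).clA.clT

end Cfsg.Agent.H257.El.Row
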