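import Cfsg.Agent.H217.Odm.Real_m3
import Cfsg.Agent.H478.SporConway
import Cfsg.Agent.H603.SporElim
import Cfsg.Agent.Prune
set_option linter.all false
prune_inst 0x7f00000000000000000000000000000000000000000000000000000000000000000000000000000000000000000000000000000000000000000000000000000000000000000000000000000000000000003fffffffffffffffffffffffffffbeffbdffffffff
open scoped Cfsg.Agent.FastGrp

/-!
# TEAM ELUSIVE: the first Conway group (helper257)
-/

set_option autoImplicit false

namespace Cfsg.Agent.H257.El.Row

open Cfsg Cfsg.Agent.OrdDiv Cfsg.Agent.H278.El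

universe u

theorem clM_co1 (tab : OrderTable.{u}) (known : Known.{u}) {T : Type u} [Group T] (h : Spor.IsoCo1 T) : ClM T := by
  have hc := NotCT.Orders.co1 h
  have : Finite T := Nat.finite_of_card_ne_zero (by rw [hc]; norm_num)
  obtain ⟨e⟩ := h
  have : Finite Spor.Co1 := Finite.of_equiv T e.toEquiv
  exact clM_of_pair tab known (r := 23) (s := 13)
    (l := [(2, 21), (3, 9), (5, 4), (7, 2), (11, 1), (13, 1), (23, 1)]) hc
    (by norm_num) (by norm_num)
    (noOrd_congr e (noOrd_of_noComm (by norm_num) (by norm_num) fun x y hx hy =>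
      H478.SporConway.ncomm_co1 (p := 23) (q := 13) (by norm_num) (by norm_num) (by norm_num) (by norm_num)
        (by norm_num) (by norm_num) (by norm_num) hx hy))
    (by decide +kernel)

theorem clT_co1 (tab : OrderTable.{u}) (known : Known.{u}) {T : Type u} [Group T] (h : Spor.IsoCo1 T) : ClT T := by
  have : Finite T := Nat.finite_of_card_ne_zero (by rw [NotCT.Orders.co1 h]; norm_num)
  exact (clM_co1 tab known h).clA.clT

end Cfsg.Agent.H257.El.Row
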