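import Cfsg.Agent.H217.Odm.Real_m3
import Cfsg.Agent.H478.SporHe
import Cfsg.Agent.H603.SporElim
import Cfsg.Agent.H898.J3Cent
import Cfsg.Agent.Prune
set_option linter.all false
prune_inst 0x7f00000000000000000000000000000000000000000000000000000000000000000000000000000000000000000000000000000000000000000000000000000000000000000000000000000000000000003fffffffffffffffffffffffffffbeffbdffffffff
open scoped Cfsg.Agent.FastGrp

-- part: H257/El/Row/He
section
/-!
# TEAM ELUSIVE: the Held group (helper257)
-/

set_option autoImplicit false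

namespace Cfsg.Agent.H257.El.Row

open Cfsg Cfsg.Agent.OrdDiv Cfsg.Agent.H278.El

universe u

theorem clM_he (tab : OrderTable.{u}) (known : Known.{u}) {T : Type u} [Group T] (h : Spor.IsoHe T) : ClM T := by
  have hc := NotCT.Orders.he h
  have : Finite T := Nat.finite_of_card_ne_zero (by rw [hc]; norm_num)
  obtain ⟨e⟩ := h
  exact clM_of_pair tab known (r := 17) (s := 7)
    (l := [(2, 10), (3, 3), (5, 2), (7, 3), (17, 1)]) hc
    (by norm_num) (by norm_num)
    (noOrd_congr e (noOrd_of_noComm (by norm_num) (by norm_num) fun x y hx hy => H478.SporHe.no119 hx hy))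
    (by decide +kernel)

theorem clT_he (tab : OrderTable.{u}) (known : Known.{u}) {T : Type u} [Group T] (h : Spor.IsoHe T) : ClT T := by
  have : Finite T := Nat.finite_of_card_ne_zero (by rw [NotCT.Orders.he h]; norm_num)
  exact (clM_he tab known h).clA.clT

end Cfsg.Agent.H257.El.Row
end

-- part: H257/El/Row/J3
section
/-!
# TEAM ELUSIVE: the third Janko group (helper257)
-/

set_option autoImplicit false

namespace Cfsg.Agent.H257.El.Row

open Cfsg Cfsg.Agent.OrdDiv Cfsg.Agent.H278.El

universe u

theorem clM_j3 (tab : OrderTable.{u}) (known : Known.{u}) {T : Type u} [Group T] (h : Spor.IsoJ3 T) : ClM T := by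
  have hc := NotCT.Orders.j3 h
  have : Finite T := Nat.finite_of_card_ne_zero (by rw [hc]; norm_num)
  exact clM_of_pair tab known (r := 19) (s := 17)
    (l := [(2, 7), (3, 5), (5, 1), (17, 1), (19, 1)]) hc
    (by norm_num) (by norm_num)
    (noOrd_of_cent (by norm_num) (fun x hx => H898.J3Cent.card_nineteen h hx) (by norm_num) (by norm_num))
    (by decide +kernel)

theorem clT_j3 (tab : OrderTable.{u}) (known : Known.{u}) {T : Type u} [Group T] (h : Spor.IsoJ3 T) : ClT T := by
  have : Finite T := Nat.finite_of_card_ne_zero (by rw [NotCT.Orders.j3 h]; norm_num)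
  exact (clM_j3 tab known h).clA.clT

end Cfsg.Agent.H257.El.Row
end
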