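import Cfsg.Agent.H217.Odm.Real_m3
import Cfsg.Agent.H393.Iso.Monster
import Cfsg.Agent.H713.Spor.MOf
import Cfsg.Agent.H603.SporElim
import Cfsg.Agent.Prune
set_option linter.all false
open scoped Cfsg.Agent.FastGrp

/-!
# TEAM ELUSIVE: the Monster (helper257)
-/

set_option autoImplicit false

namespace Cfsg.Agent.H257.El.Row

open Cfsg Subgroup Cfsg.Agent.OrdDiv Cfsg.Agent.H278.El
open Cfsg.Agent.CTwoTab Cfsg.Agent.MonsterX.Model Cfsg.Agent.MonsterX.MainPack
  Cfsg.Agent.MonsterX.MainSimple Cfsg.Agent.MonsterX.MainBasic Cfsg.Agent.MonsterU.Assembly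

universe u

theorem two_m_of {W : Type} [AddCommGroup W] [Module ℚ W] {M : MData W} {K₀ : Type} [Group K₀] (A : All M K₀) :
    ∃ x y : M.G, orderOf x = 2 ∧ orderOf y = 2 ∧ ∀ φ : M.G ≃* M.G, φ y ∉ zpowers x := by
  have := G_finite A.hO
  refine ⟨_, _, Cfsg.Agent.MonsterX.MainPack.orderOf_z A.hG, H713.Spor.MOf.orderOf_t A.hG A.hR,
    two_of_centA (Cfsg.Agent.MonsterX.MainPack.orderOf_z A.hG) (H713.Spor.MOf.orderOf_t A.hG A.hR) ?_⟩
  rw [H713.Spor.MOf.card_cent_z A.hG A.hR A.hL A.hO A.hT, card_cent_t A.hG A.hR A.hL A.hO A.hT]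
  norm_num

theorem clA_m (tab : OrderTable.{u}) (known : Known.{u}) {T : Type u} [Group T] (h : Spor.IsoM T) : ClA T := by
  have hc := NotCT.Orders.m h
  have : Finite T := Nat.finite_of_card_ne_zero (by rw [hc]; norm_num)
  have h59 : ∀ z : T, orderOf z ≠ 59 * 2 :=
    noOrd_of_noComm (by norm_num) Nat.prime_two (H393.Iso.na_m h (p := 59) (by simp))
  have h71 : ∀ z : T, orderOf z ≠ 71 * 2 :=
    noOrd_of_noComm (by norm_num) Nat.prime_two (H393.Iso.na_m h (p := 71) (by simp))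
  obtain ⟨e⟩ := h
  obtain ⟨f⟩ := Cfsg.Agent.MonsterP.Equiv.equiv
  obtain ⟨x, y, hx, hy, hxy⟩ := exists_twoA_congr (e.trans f) (two_m_of Cfsg.Agent.MonsterU.Uncond.all)
  exact (clA_of_na tab known (r := 59) (s := 71)
    (l := [(2, 46), (3, 20), (5, 9), (7, 6), (11, 2), (13, 3), (17, 1), (19, 1), (23, 1), (29, 1), (31, 1), (41, 1),
      (47, 1), (59, 1), (71, 1)]) hc
    (by norm_num) (by norm_num) h59 h71 (by decide +kernel) hx hy hxy)

theorem clT_m (tab : OrderTable.{u}) (known : Known.{u}) {T : Type u} [Group T] (h : Spor.IsoM T) : ClT T :=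
  (clA_m tab known h).clT

end Cfsg.Agent.H257.El.Row
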