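import Cfsg.Agent.H217.Odm.Real_m3
import Cfsg.Agent.H866.ONFive
import Cfsg.Agent.H393.Iso.ON
import Cfsg.Agent.H603.SporElim
import Cfsg.Agent.FastGrp
import Cfsg.Agent.Prune
set_option linter.all false
open scoped Cfsg.Agent.FastGrp

/-!
# TEAM ELUSIVE: the O'Nan group (helper257)

`r = 31`: the possible simple groups at the top have order prime to 19. The 2-subgroups of the centralizer of an element
of order 7 which commutes with an involution have order at most 4, hence 31 does not divide the order of it.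
-/

set_option autoImplicit false
set_option maxRecDepth 100000

namespace Cfsg.Agent.H257.El.Row.ONRow

open Subgroup Cfsg
open Cfsg.Spor (ON)
open Cfsg.Spor.ON (Gen)
open Cfsg.Agent.SporadicB.ON45Word (on)
open Cfsg.Agent.UGT.C.BalONInv (T conj_f)
open Cfsg.Agent.KFacts.ON.Words (hs vv v va)
open Cfsg.Agent.KFacts.ON.Struct
open Cfsg.Agent.KFacts.ON.Cent (hON finite_ON cen card_K0)
open Cfsg.Agent.ONType
open Cfsg.Agent.ONType.TupK (K0)
open Cfsg.Agent.CpAutON.Codes Cfsg.Agent.CpAutON.Seven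

/-- the 2-subgroups centralizing an element of order 7 -/
theorem card_dvd_four {x : ON} (hx : x ^ 7 = 1) (hx1 : x ≠ 1) (R : Subgroup ON) (hR : IsPGroup 2 ↥R)
    (hRx : ∀ r ∈ R, r * x = x * r) : Nat.card R ∣ 4 := by
  have := finite_ON
  have h2 : Fact (Nat.Prime 2) := ⟨Nat.prime_two⟩
  rcases subsingleton_or_nontrivial ↥R with hs' | hnt
  · rw [Nat.card_of_subsingleton (1 : R)]
    exact one_dvd _
  have hZ : Nontrivial ↥(center ↥R) := hR.center_nontrivial
  obtain ⟨z, hz⟩ : ∃ z : ↥(center ↥R), orderOf z = 2 := by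
    have h3 : IsPGroup 2 ↥(center ↥R) := hR.to_subgroup _
    obtain ⟨k, hk⟩ := IsPGroup.iff_card.1 h3
    have h4 : 2 ∣ Nat.card ↥(center ↥R) := by
      rw [hk]
      apply dvd_pow_self
      rintro rfl
      rw [pow_zero] at hk
      exact (Finite.one_lt_card (α := ↥(center ↥R))).ne' hk
    exact exists_prime_orderOf_dvd_card' 2 h4
  obtain ⟨s, hs1⟩ : ∃ s : ON, s = ((z : ↥R) : ON) := ⟨_, rfl⟩
  have hso : orderOf s = 2 := by rw [hs1, Subgroup.orderOf_coe, Subgroup.orderOf_coe, hz]
  have hss : s * s = 1 := by rw [← pow_two, ← hso, pow_orderOf_eq_one]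
  have hs0 : s ≠ 1 := by
    rintro h
    rw [h, orderOf_one] at hso
    omega
  have hsR : ∀ r ∈ R, r * s = s * r := by
    intro r hr
    have h3 := mem_center_iff.1 z.2 ⟨r, hr⟩
    rw [hs1]
    exact congrArg Subtype.val h3
  have hsx : s * x = x * s := by
    rw [hs1]
    exact hRx _ (z : ↥R).2
  obtain ⟨g, hg⟩ := conj_f hON hss hs0
  have hcomm : ∀ {y z : ON}, y * z = z * y → (g * y * g⁻¹) * (g * z * g⁻¹) = (g * z * g⁻¹) * (g * y * g⁻¹) := by
    intro y z hyz
    calc (g * y * g⁻¹) * (g * z * g⁻¹) = g * (y * z) * g⁻¹ := by group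
      _ = g * (z * y) * g⁻¹ := by rw [hyz]
      _ = (g * z * g⁻¹) * (g * y * g⁻¹) := by group
  have hmem : ∀ r : ↥R, g * (r : ON) * g⁻¹ ∈ zpowers v := by
    intro r
    obtain ⟨k, hk⟩ := hR r
    refine two_K0 (x := g * x * g⁻¹) (n := k) ?_ ?_ ?_ ?_ (hcomm (hRx r r.2)) ?_
    · rw [conj_pow, hx]; group
    · intro h
      apply hx1
      calc x = g⁻¹ * (g * x * g⁻¹) * g := by group
        _ = 1 := by rw [h]; group
    · rw [mem_K0, ← hg]
      exact hcomm hsx.symm
    · rw [mem_K0, ← hg]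
      exact hcomm (hsR r r.2)
    · have h3 : (r : ON) ^ 2 ^ k = 1 := congrArg Subtype.val hk
      rw [conj_pow, h3]; group
  let ψ : ↥R →* ↥(zpowers v) :=
    { toFun := fun r => ⟨g * (r : ON) * g⁻¹, hmem r⟩
      map_one' := by
        apply Subtype.ext
        change g * (1 : ON) * g⁻¹ = 1
        group
      map_mul' := fun a b => by
        apply Subtype.ext
        change g * ((a : ON) * (b : ON)) * g⁻¹ = (g * (a : ON) * g⁻¹) * (g * (b : ON) * g⁻¹)
        group }
  have hψ : Function.Injective ψ := by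
    intro a b hab
    apply Subtype.ext
    have h3 : g * (a : ON) * g⁻¹ = g * (b : ON) * g⁻¹ := congrArg Subtype.val hab
    exact mul_left_cancel (mul_right_cancel h3)
  refine (Subgroup.card_dvd_of_injective ψ hψ).trans ?_
  rw [Nat.card_zpowers]
  exact orderOf_dvd_of_pow_eq_one v_four

theorem x0_v : x0 * v = v * x0 := by
  rcases conj_v x0_mem with h | h
  · exact mul_inv_eq_iff_eq_mul.1 h
  · exfalso
    have h1 : ∀ k : ℕ, x0 ^ (2 * k) * v * (x0 ^ (2 * k))⁻¹ = v := by
      intro k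
      induction k with
      | zero => group
      | succ k ih =>
        have e : x0 ^ (2 * (k + 1)) * v * (x0 ^ (2 * (k + 1)))⁻¹ =
            x0 * (x0 * (x0 ^ (2 * k) * v * (x0 ^ (2 * k))⁻¹) * x0⁻¹) * x0⁻¹ := by
          rw [show 2 * (k + 1) = 2 * k + 1 + 1 by ring, pow_succ', pow_succ']; group
        rw [e, ih, h]
        have e2 : x0 * v⁻¹ * x0⁻¹ = (x0 * v * x0⁻¹)⁻¹ := by group
        rw [e2, h, inv_inv]
    have h2 := h1 4
    have h3 : x0 ^ (2 * 4) = x0 := by
      rw [show 2 * 4 = 7 + 1 by norm_num, pow_succ, x0_pow, one_mul]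
    rw [h3, h] at h2
    have h4 : v * v = 1 := by
      nth_rewrite 1 [← h2]
      group
    rw [vv] at h4
    exact f_ne_one h4

theorem on_model : ∃ y : ON, orderOf y = 7 ∧ (4 ∣ Nat.card (centralizer ({y} : Set ON)) ∧
    ¬ 8 ∣ Nat.card (centralizer ({y} : Set ON))) := by
  have := finite_ON
  have h2 : Fact (Nat.Prime 2) := ⟨Nat.prime_two⟩
  have h7 : Fact (Nat.Prime 7) := ⟨by norm_num⟩
  refine ⟨x0, orderOf_eq_prime x0_pow x0_ne, ?_, fun h8 => ?_⟩
  · have h4 : orderOf v = 2 ^ (1 + 1) := by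
      refine orderOf_eq_prime_pow ?_ (by rw [← v_four]; norm_num)
      rw [pow_one, pow_two, vv]
      exact f_ne_one
    have h5 := Subgroup.orderOf_dvd_natCard _
      (mem_centralizer_singleton_iff.2 x0_v.symm : v ∈ centralizer ({x0} : Set ON))
    rw [h4] at h5
    exact h5
  · obtain ⟨R, hR⟩ := Sylow.exists_subgroup_card_pow_prime (G := centralizer ({x0} : Set ON)) 2 (n := 3) h8
    have h3 : Nat.card (R.map (centralizer ({x0} : Set ON)).subtype) = 2 ^ 3 := by
      rw [Subgroup.card_map_of_injective (Subgroup.subtype_injective _), hR]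
    have h5 := card_dvd_four x0_pow x0_ne (R.map (centralizer ({x0} : Set ON)).subtype) (IsPGroup.of_card h3)
      (by
        rintro _ ⟨r, -, rfl⟩
        exact mem_centralizer_singleton_iff.1 r.2)
    rw [h3] at h5
    norm_num at h5

end Cfsg.Agent.H257.El.Row.ONRow

namespace Cfsg.Agent.H257.El.Row

open Cfsg Subgroup Cfsg.Agent.OrdDiv Cfsg.Agent.H278.El

universe u

theorem noOrd_on {p : ℕ} (hp : p.Prime) (hd : ¬ p ∣ 161280) (z : Spor.ON) : orderOf z ≠ p * 2 := by
  have hfin : Finite Spor.ON := Cfsg.Agent.KFacts.ON.Cent.finite_ON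
  have h1 : H393.Iso.NA p Spor.ON := by
    refine H393.Iso.NA.of_isConj (fun s => s = Cfsg.Agent.SporadicB.ON45Word.on .f) (fun t ht ht1 => ⟨_, rfl, ?_⟩) ?_
    · exact (Cfsg.Agent.KFacts.ON.OneClass.one_class ht ht1).symm
    · rintro s rfl x hx hxs
      refine H393.Iso.not_comm_of_card ?_ hx hxs
      rw [Cfsg.Agent.KFacts.ON.Cent.card_cent]
      exact hd
  exact noOrd_of_noComm hp Nat.prime_two h1 z

theorem clA_on (tab : OrderTable.{u}) (known : Known.{u}) {T : Type u} [Group T] (h : Spor.IsoON T) : ClA T := by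
  have hc := NotCT.Orders.on h
  have : Finite T := Nat.finite_of_card_ne_zero (by rw [hc]; norm_num)
  obtain ⟨e⟩ := h
  obtain ⟨y, hy, h4, h8⟩ := exists_cent_congr e (P := fun k => 4 ∣ k ∧ ¬ 8 ∣ k) ONRow.on_model
  have h31 : ∀ z : T, orderOf z ≠ 31 * 2 := noOrd_congr e (noOrd_on (by norm_num) (by norm_num))
  have hlt : Nat.card (centralizer ({y} : Set T)) < 460815505920 := by
    have h1 := Subgroup.card_subgroup_dvd_card (centralizer ({y} : Set T))
    rw [hc] at h1
    refine lt_of_le_of_ne (Nat.le_of_dvd (by norm_num) h1) fun h2 => ?_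
    rw [h2] at h8
    exact h8 (by norm_num)
  refine clA_of_cent tab known (r := 31) (p := 7) (ss := [19])
    (l := [(2, 9), (3, 4), (5, 1), (7, 3), (11, 1), (19, 1), (31, 1)]) hc (by norm_num) (by norm_num)
    ?_ (by decide +kernel) hy ?_
  · intro s hs
    rw [List.mem_singleton] at hs
    rw [hs]
    exact ⟨by norm_num, noOrd_congr e (noOrd_on (by norm_num) (by norm_num))⟩
  · refine not_dvd_of_four tab known (n := 460815505920) (b := 2)
      (l := [(2, 9), (3, 4), (5, 1), (7, 3), (11, 1), (19, 1), (31, 1)]) ?_ hlt (by decide +kernel) (by norm_num)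
      (by norm_num) (by norm_num) (fun z => ?_) h4 (by norm_num) h8 ?_ (by decide +kernel)
    · rw [← hc]
      exact Subgroup.card_subgroup_dvd_card _
    · rw [← Subgroup.orderOf_coe]
      exact h31 _
    · intro i h1 h2
      interval_cases i <;> norm_num

theorem clT_on (tab : OrderTable.{u}) (known : Known.{u}) {T : Type u} [Group T] (h : Spor.IsoON T) : ClT T :=
  (clA_on tab known h).clT

end Cfsg.Agent.H257.El.Row
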