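import Cfsg.Agent.H217.Odm.Real_m3
import Cfsg.Agent.H723.Spor.Th
import Cfsg.Agent.H393.Iso.He
import Cfsg.Agent.H603.SporElim
import Cfsg.Agent.Prune
set_option linter.all false
prune_inst 0x7f00000000000000000000000000000000000000000000000000000000000000000000000000000000000000000000000000000000000000000000000000000000000000000000000000000000000000003fffffffffffffffffffffffffffbeffbdffffffff
open scoped Cfsg.Agent.FastGrp

/-!
# TEAM ELUSIVE: the Thompson group (helper257)

`r = 19`: the two possible simple groups at the top have order prime to 13, and the elements of order 7 which commute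
with involutions commute with no element of order 19.
-/

set_option autoImplicit false

namespace Cfsg.Agent.H257.El.Row

open Cfsg Subgroup Cfsg.Agent.OrdDiv Cfsg.Agent.H278.El

universe u

theorem th_model : ∃ y : Spor.Th, orderOf y = 7 ∧ ¬ 19 ∣ Nat.card (centralizer ({y} : Set Spor.Th)) := by
  have hfin : Finite Spor.Th := Nat.finite_of_card_ne_zero (by rw [H723.Spor.Th.card_th]; norm_num)
  have : Fact (Nat.Prime 2) := ⟨Nat.prime_two⟩
  have : Fact (Nat.Prime 7) := ⟨by norm_num⟩
  obtain ⟨t, ht⟩ := exists_prime_orderOf_dvd_card' (G := Spor.Th) 2 (by rw [H723.Spor.Th.card_th]; norm_num)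
  obtain ⟨y, hy⟩ := exists_prime_orderOf_dvd_card' (G := ↥(centralizer ({t} : Set Spor.Th))) 7
    (by rw [MonsterX.ThOneClass.card_centralizer ht]; norm_num)
  rw [← Subgroup.orderOf_coe] at hy
  have hyt := mem_centralizer_singleton_iff.1 y.2
  refine ⟨y, hy, fun h => ?_⟩
  rcases H723.Spor.Th.card_seven Cfsg.Agent.KFacts.Th.Main.ctx H723.Spor.Th.hone hy ht hyt.symm with h1 | h1 <;>
    · rw [h1] at h
      norm_num at h

theorem noOrd_th {p : ℕ} (hp : p.Prime) (hd : ¬ p ∣ 92897280) (z : Spor.Th) : orderOf z ≠ p * 2 := by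
  have hfin : Finite Spor.Th := Nat.finite_of_card_ne_zero (by rw [H723.Spor.Th.card_th]; norm_num)
  have h1 : H393.Iso.NA p Spor.Th := H393.Iso.NA.of_card fun t ht => by
    rw [MonsterX.ThOneClass.card_centralizer ht]
    exact hd
  exact noOrd_of_noComm hp Nat.prime_two h1 z

theorem clA_th (tab : OrderTable.{u}) (known : Known.{u}) {T : Type u} [Group T] (h : Spor.IsoTh T) : ClA T := by
  have hc := NotCT.Orders.th h
  have : Finite T := Nat.finite_of_card_ne_zero (by rw [hc]; norm_num)
  obtain ⟨e⟩ := h
  obtain ⟨y, hy, hyr⟩ := exists_cent_congr e (P := fun k => ¬ 19 ∣ k) th_model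
  refine clA_of_cent tab known (r := 19) (p := 7) (ss := [13])
    (l := [(2, 15), (3, 10), (5, 3), (7, 2), (13, 1), (19, 1), (31, 1)]) hc (by norm_num) (by norm_num)
    ?_ (by decide +kernel) hy hyr
  intro s hs
  rw [List.mem_singleton] at hs
  rw [hs]
  exact ⟨by norm_num, noOrd_congr e (noOrd_th (by norm_num) (by norm_num))⟩

theorem clT_th (tab : OrderTable.{u}) (known : Known.{u}) {T : Type u} [Group T] (h : Spor.IsoTh T) : ClT T :=
  (clA_th tab known h).clT

end Cfsg.Agent.H257.El.Row
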